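import Cfsg.Agent.Cit.HexQ
import Cfsg.Agent.Cit.HexInv

/-!
# Groups of type `G₂`, `³D₄` over a finite field of odd characteristic: the centre of a Sylow subgroup

`cent_pos` : `C(⟨X 1, …, X 6⟩) ≤ X 4` (the trace form is nondegenerate);
`isConj_x4`, `isConj_A` : the elements `x4 t * x6 s`, `(s, t) ≠ 0`, are conjugate.
-/

set_option autoImplicit false

namespace Cfsg.Agent.H291.TC.HexZ

open Cfsg.Agent.SplitTwo Cfsg.Agent.TitsThree.RankTwoZ Cfsg.Agent.Lib.SL2Mat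
  Cfsg.Agent.TitsThree.RankTwoIdx Cfsg.Agent.TitsThree.RankTwoRGD
open Cfsg.Agent.Cit.HexBase Cfsg.Agent.Cit.HexBase.HexGrp

section SL

variable {K : Type*} [Field K]

theorem sl_cases {y : SL2 K} (h : y * up 1 = up 1 * y) :
    (∃ b, y = up b) ∨ ∃ b, y = up b * dg (-1) (neg_ne_zero.2 one_ne_zero) := by
  have e00 := congrArg (fun x => ent x 0 0) h
  have e01 := congrArg (fun x => ent x 0 1) h
  simp only [ent_mul, up_00, up_01, up_10, up_11] at e00 e01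
  have h10 : ent y 1 0 = 0 := by linear_combination -e00
  have h11 : ent y 1 1 = ent y 0 0 := by linear_combination -e01
  have hd := det_eq y
  rw [h10, h11] at hd
  have h2 : (ent y 0 0 - 1) * (ent y 0 0 + 1) = 0 := by linear_combination hd
  rcases mul_eq_zero.1 h2 with h3 | h3
  · left
    have h4 : ent y 0 0 = 1 := sub_eq_zero.1 h3
    refine ⟨ent y 0 1, ext_ent ?_ ?_ ?_ ?_⟩
    · rw [up_00, h4]
    · rw [up_01]
    · rw [up_10, h10]
    · rw [up_11, h11, h4]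
  · right
    have h4 : ent y 0 0 = -1 := eq_neg_of_add_eq_zero_left h3
    refine ⟨-ent y 0 1, ext_ent ?_ ?_ ?_ ?_⟩
    · simp [ent_mul, h4]
    · simp [ent_mul]
    · simp [ent_mul, h10]
    · simp [ent_mul, h11, h4]

end SL

universe u

variable {E : Type*} [Field E] {σ : E ≃+* E} {L : Type u} [Group L] (c : HexGrp σ L)

/-- `K 1 ∩ Q 4 = 1` -/
theorem eq_one_of_K1_Q4 {g : L} (h1 : g ∈ c.K1) (h4 : g ∈ c.Q4) : g = 1 := by
  obtain ⟨y, rfl⟩ := h1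
  have h := conj_Sg c.maps_n4 (t := {0, 11, 10, 9, 8}) (by decide +kernel) h4
  have e : c.n4 * c.pb y * c.n4⁻¹ = c.pb y := by
    have := c.comm_pb_p4 y (wm 1 one_ne_zero)
    rw [n4, ← this]; group
  rw [e] at h
  exact c.eq_one_of_pos_neg (Sg_mono (by decide +kernel) h4) (Sg_mono (by decide +kernel) h)

theorem kk_comm {x y : L} (h : kk x y = 1) : x * y = y * x := eq_of_kk h

/-- `C(U) ≤ U` -/
theorem mem_pos [Finite E] (h2 : (2 : E) ≠ 0) {g : L} (hg : ∀ x ∈ Sg c.X Pos, g * x = x * g) :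
    g ∈ Sg c.X Pos := by
  obtain ⟨q, hq, k, ⟨y, rfl⟩, rfl⟩ := c.centralizer_X4 h2 (fun x hx => hg x (c.sg (by decide) hx))
  have hx1 := c.mem1 (1 : E)
  have e := hg (c.x1 1) (c.sg (by decide) hx1)
  have e1 : (c.x1 1)⁻¹ * (c.pb y * c.x1 1 * (c.pb y)⁻¹) = ((c.x1 1)⁻¹ * q⁻¹ * (c.x1 1)⁻¹⁻¹) * q := by
    have : c.pb y * c.x1 1 * (c.pb y)⁻¹ = q⁻¹ * c.x1 1 * q := by
      calc c.pb y * c.x1 1 * (c.pb y)⁻¹ = q⁻¹ * (q * c.pb y * c.x1 1) * (c.pb y)⁻¹ := by group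
        _ = _ := by rw [e]; group
    rw [this]
    group
  have e2 : (c.x1 1)⁻¹ * (c.pb y * c.x1 1 * (c.pb y)⁻¹) = 1 := by
    refine eq_one_of_K1_Q4 c ?_ ?_
    · exact mul_mem (inv_mem (c.X1_le_K1 hx1)) (mul_mem (mul_mem ⟨y, rfl⟩ (c.X1_le_K1 hx1)) (inv_mem ⟨y, rfl⟩))
    · rw [e1]
      exact mul_mem (c.K1_Q4 (inv_mem (c.X1_le_K1 hx1)) (inv_mem hq)) hq
  have e3 : y * up 1 = up 1 * y := by
    apply c.pb_inj h2
    rw [map_mul, map_mul, c.pb_up]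
    rw [inv_mul_eq_one] at e2
    nth_rewrite 2 [e2]
    group
  rcases sl_cases e3 with ⟨b, rfl⟩ | ⟨b, rfl⟩
  · rw [c.pb_up]
    exact mul_mem (c.Q4_le_Pos hq) (c.sg (by decide) (c.mem1 b))
  · exfalso
    rw [map_mul, c.pb_up] at hg
    have hu : q * c.x1 b ∈ Sg c.X Pos := mul_mem (c.Q4_le_Pos hq) (c.sg (by decide) (c.mem1 b))
    have hn : (-1 : E) ≠ 0 := neg_ne_zero.2 one_ne_zero
    obtain ⟨u, hu'⟩ : ∃ u, u = q * c.x1 b := ⟨_, rfl⟩
    obtain ⟨z, hz⟩ : ∃ z, z = c.pb (dg (-1 : E) hn) := ⟨_, rfl⟩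
    have hA := (c.act_b (-1 : E) hn).a6 1 (map_one σ)
    rw [← hz, nrm_neg, nrm_one, inv_neg, inv_one, mul_one] at hA
    have h6 := hg (c.x6 1) (c.sg (by decide) (c.mem6 (map_one σ)))
    rw [← hz, ← mul_assoc, ← hu'] at h6
    rw [← hu'] at hu
    have h7 : u * c.x6 (-1) = c.x6 1 * u := by
      calc u * c.x6 (-1) = u * (z * c.x6 1 * z⁻¹) := by rw [hA]
        _ = (u * z * c.x6 1) * z⁻¹ := by group
        _ = c.x6 1 * u := by rw [h6]; group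
    obtain ⟨v, hv, w, hw, rfl⟩ := c.exists_mul' (k := 6) (s := {1, 2, 3, 4, 5}) (by decide +kernel)
      (Sg_mono (by decide +kernel) hu)
    have m6 : ∀ t : E, σ t = t → c.x6 t ∈ c.X 6 := fun t ht => c.mem6 ht
    have hv' : c.x6 1 * v * (c.x6 1)⁻¹ ∈ Sg c.X {1, 2, 3, 4, 5} :=
      c.conj_mem_Sg (by decide +kernel) (m6 1 (map_one σ)) hv
    have h8 := c.peel' (k := 6) (s := {1, 2, 3, 4, 5}) (by decide +kernel)
      (mul_mem hw (m6 (-1) (neg_fix (map_one σ)))) hv (mul_mem (m6 1 (map_one σ)) hw) hv'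
      (by rw [← mul_assoc, h7]; group)
    obtain ⟨a, ha, rfl⟩ := (c.par.mem6 _).1 hw
    have h9 := h8.1
    rw [← c.x6_add ha (neg_fix (map_one σ)), ← c.x6_add (map_one σ) ha] at h9
    have h10 := c.x6_inj (by rw [map_add, ha, map_neg, map_one]) (by rw [map_add, ha, map_one]) h9
    exact h2 (by linear_combination -h10)

/-- **`C(U) ≤ X 4`** -/
theorem cent_pos [Finite E] (h2 : (2 : E) ≠ 0) (hnd : ∀ b : E, (∀ a, trc σ a b = 0) → b = 0) {g : L}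
    (hg : ∀ x ∈ Sg c.X Pos, g * x = x * g) : g ∈ c.X 4 := by
  have hU := mem_pos c h2 hg
  have hr := c.par.rel
  obtain ⟨_, h1, _, h2', _, h3, _, h4, _, h5, _, h6, e0⟩ := c.exists_prod hU
  obtain ⟨a, rfl⟩ := (c.par.mem1 _).1 h1
  obtain ⟨r, hrf, rfl⟩ := (c.par.mem2 _).1 h2'
  obtain ⟨b, rfl⟩ := (c.par.mem3 _).1 h3
  obtain ⟨s, hsf, rfl⟩ := (c.par.mem4 _).1 h4
  obtain ⟨e, rfl⟩ := (c.par.mem5 _).1 h5
  obtain ⟨f, hff, rfl⟩ := (c.par.mem6 _).1 h6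
  have h1f : σ (1 : E) = 1 := map_one σ
  -- `f = 0`
  have hf0 : f = 0 := by
    have k := hg (c.x2 1) (c.sg (by decide) (c.mem2 h1f))
    have c12 := kk_comm (hr.c12 a 1 h1f)
    have c22 : c.x2 r * c.x2 1 = c.x2 1 * c.x2 r := by
      rw [← c.x2_add hrf h1f, ← c.x2_add h1f hrf, add_comm]
    have c23 := kk_comm (hr.c23 1 b h1f)
    have c24 := kk_comm (hr.c24 1 s h1f hsf)
    have c25 := kk_comm (hr.c25 1 e h1f)
    have c26 := hr.c26 1 f h1f hff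
    have e6 : c.x6 f * c.x2 1 * c.x4 (1 * f) = c.x2 1 * c.x6 f := by
      rw [← c26]; unfold kk; group
    have e7 : g * c.x2 1 * c.x4 (1 * f) = c.x2 1 * g := by
      rw [e0]
      calc c.x1 a * c.x2 r * c.x3 b * c.x4 s * c.x5 e * c.x6 f * c.x2 1 * c.x4 (1 * f)
          = c.x1 a * c.x2 r * c.x3 b * c.x4 s * c.x5 e * (c.x6 f * c.x2 1 * c.x4 (1 * f)) := by group
        _ = c.x1 a * c.x2 r * c.x3 b * c.x4 s * (c.x5 e * c.x2 1) * c.x6 f := by rw [e6]; group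
        _ = c.x1 a * c.x2 r * c.x3 b * (c.x4 s * c.x2 1) * c.x5 e * c.x6 f := by rw [← c25]; group
        _ = c.x1 a * c.x2 r * (c.x3 b * c.x2 1) * c.x4 s * c.x5 e * c.x6 f := by rw [← c24]; group
        _ = c.x1 a * (c.x2 r * c.x2 1) * c.x3 b * c.x4 s * c.x5 e * c.x6 f := by rw [← c23]; group
        _ = (c.x1 a * c.x2 1) * c.x2 r * c.x3 b * c.x4 s * c.x5 e * c.x6 f := by rw [c22]; group
        _ = _ := by rw [c12]; group
    rw [k, one_mul] at e7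
    have e8 : c.x4 f = 1 := by
      have : c.x2 1 * g * c.x4 f = c.x2 1 * g * 1 := by rw [e7, mul_one]
      exact mul_left_cancel this
    exact c.x4_inj hff (map_zero σ) (by rw [e8, c.x4_zero])
  subst hf0
  rw [c.x6_zero, mul_one] at e0
  have k6 := hg (c.x6 1) (c.sg (by decide) (c.mem6 h1f))
  -- `x6 1` on the factors
  have c26 := hr.c26 r (-1) hrf (neg_fix h1f)
  have c36 := kk_comm (hr.c36 b 1 h1f)
  have c46 := kk_comm (hr.c46 s 1 hsf h1f)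
  have c56 := kk_comm (hr.c56 e 1 h1f)
  have e62 : c.x6 1 * c.x2 r = c.x2 r * c.x4 (-r) * c.x6 1 := by
    have : kk (c.x2 r) (c.x6 (-1)) = c.x4 (-r) := by rw [c26]; congr 1; ring
    rw [← this, c.x6_neg h1f]
    unfold kk
    group
  have e61 := c.conj61 a 1 h1f
  rw [one_mul, one_mul, one_pow, one_mul, one_mul] at e61
  have k7 : c.x6 1 * g * (c.x6 1)⁻¹ = g := by rw [← k6]; group
  have k8 : c.x6 1 * g * (c.x6 1)⁻¹ = (c.x6 1 * c.x1 a * (c.x6 1)⁻¹) * (c.x2 r * c.x4 (-r)) *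
      (c.x3 b * c.x4 s * c.x5 e) := by
    rw [e0]
    calc c.x6 1 * (c.x1 a * c.x2 r * c.x3 b * c.x4 s * c.x5 e) * (c.x6 1)⁻¹
        = (c.x6 1 * c.x1 a * (c.x6 1)⁻¹) * (c.x6 1 * c.x2 r) * c.x3 b * c.x4 s * c.x5 e * (c.x6 1)⁻¹ := by group
      _ = (c.x6 1 * c.x1 a * (c.x6 1)⁻¹) * (c.x2 r * c.x4 (-r)) * (c.x6 1 * c.x3 b) * c.x4 s * c.x5 e *
          (c.x6 1)⁻¹ := by rw [e62]; group
      _ = (c.x6 1 * c.x1 a * (c.x6 1)⁻¹) * (c.x2 r * c.x4 (-r)) * c.x3 b * (c.x6 1 * c.x4 s) * c.x5 e *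
          (c.x6 1)⁻¹ := by rw [← c36]; group
      _ = (c.x6 1 * c.x1 a * (c.x6 1)⁻¹) * (c.x2 r * c.x4 (-r)) * c.x3 b * c.x4 s * (c.x6 1 * c.x5 e) *
          (c.x6 1)⁻¹ := by rw [← c46]; group
      _ = _ := by rw [← c56]; group
  rw [k7, e61] at k8
  have hra : σ (-r) = -r := neg_fix hrf
  have m3 : ∀ x, c.x3 x ∈ Sg c.X {3, 4, 5} := fun x => c.sg (by decide) (c.mem3 x)
  have m4 : ∀ x, σ x = x → c.x4 x ∈ Sg c.X {3, 4, 5} := fun x hx => c.sg (by decide) (c.mem4 hx)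
  have m5 : ∀ x, c.x5 x ∈ Sg c.X {3, 4, 5} := fun x => c.sg (by decide) (c.mem5 x)
  have m25 : ∀ x, x ∈ Sg c.X {3, 4, 5} → x ∈ Sg c.X {2, 3, 4, 5} := fun x hx => Sg_mono (by decide +kernel) hx
  have m2 : ∀ x, σ x = x → c.x2 x ∈ Sg c.X {2, 3, 4, 5} := fun x hx => c.sg (by decide) (c.mem2 hx)
  have hW := mul_mem (mul_mem (m3 (-shp σ a)) (m4 (nrm σ a) (c.nf a))) (m5 a)
  have k9 : c.x1 a * (c.x2 r * (c.x3 b * c.x4 s * c.x5 e)) =
      c.x1 a * (c.x2 (nrm σ a + r) * ((c.x3 (-shp σ a) * c.x4 (nrm σ a) * c.x5 a) * c.x4 (-r) *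
        (c.x3 b * c.x4 s * c.x5 e))) := by
    have t1 : (c.x3 (-shp σ a) * c.x4 (nrm σ a) * c.x5 a) * c.x2 r =
        c.x2 r * (c.x3 (-shp σ a) * c.x4 (nrm σ a) * c.x5 a) := by
      have c23 := kk_comm (hr.c23 r (-shp σ a) hrf)
      have c24 := kk_comm (hr.c24 r (nrm σ a) hrf (c.nf a))
      have c25 := kk_comm (hr.c25 r a hrf)
      calc (c.x3 (-shp σ a) * c.x4 (nrm σ a) * c.x5 a) * c.x2 r
          = c.x3 (-shp σ a) * c.x4 (nrm σ a) * (c.x5 a * c.x2 r) := by group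
        _ = c.x3 (-shp σ a) * (c.x4 (nrm σ a) * c.x2 r) * c.x5 a := by rw [← c25]; group
        _ = (c.x3 (-shp σ a) * c.x2 r) * c.x4 (nrm σ a) * c.x5 a := by rw [← c24]; group
        _ = _ := by rw [← c23]; group
    have t2 : g = c.x1 a * (c.x2 r * (c.x3 b * c.x4 s * c.x5 e)) := by rw [e0]; group
    rw [← t2, k8, c.x2_add (c.nf a) hrf]
    calc c.x1 a * (c.x2 (nrm σ a) * c.x3 (-shp σ a) * c.x4 (nrm σ a) * c.x5 a) * (c.x2 r * c.x4 (-r)) *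
        (c.x3 b * c.x4 s * c.x5 e)
        = c.x1 a * (c.x2 (nrm σ a) * ((c.x3 (-shp σ a) * c.x4 (nrm σ a) * c.x5 a) * c.x2 r) * c.x4 (-r) *
        (c.x3 b * c.x4 s * c.x5 e)) := by group
      _ = _ := by rw [t1]; group
  have k10 := mul_left_cancel k9
  have hnr : σ (nrm σ a + r) = nrm σ a + r := by rw [map_add, c.nf, hrf]
  have k11 := c.peel (k := 2) (s := {3, 4, 5}) (by decide +kernel) (c.mem2 hrf)
    (mul_mem (mul_mem (m3 b) (m4 s hsf)) (m5 e)) (c.mem2 hnr)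
    (mul_mem (mul_mem hW (m4 _ hra)) (mul_mem (mul_mem (m3 b) (m4 s hsf)) (m5 e))) k10
  have ha0 : a = 0 := by
    by_contra ha
    have := c.x2_inj hrf hnr k11.1
    exact nrm_ne (σ := σ) ha (by linear_combination -this)
  subst ha0
  have hr0 : r = 0 := by
    have e9 := k11.2
    have n0 : nrm σ (0 : E) = 0 := by unfold nrm; ring
    have s0 : shp σ (0 : E) = 0 := by unfold shp; rw [map_zero]; ring
    rw [n0, s0, neg_zero, c.x3_zero, c.x4_zero, c.x5_zero, one_mul, one_mul, one_mul] at e9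
    have e10 : c.x4 (-r) = 1 := right_eq_mul.1 e9
    have := c.x4_inj hra (map_zero σ) (by rw [e10, c.x4_zero])
    exact neg_eq_zero.1 this
  subst hr0
  rw [c.x1_zero, c.x2_zero, one_mul, one_mul] at e0
  -- `x1 t` for all `t`
  have key : ∀ t : E, trc σ t b = trc σ (shp σ t) e ∧ crs σ t e = 0 := by
    intro t
    have k := hg (c.x1 t) (c.sg (by decide) (c.mem1 t))
    have c13 := hr.c13 t b
    have c14 := kk_comm (hr.c14 t s hsf)
    have c15 := hr.c15 t e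
    have f1 : σ (trc σ t b) = trc σ t b := trc_fix c.cube _ _
    have f2 : σ (trc σ (shp σ t) e) = trc σ (shp σ t) e := trc_fix c.cube _ _
    have f3 : σ (trc σ t (shp σ e)) = trc σ t (shp σ e) := trc_fix c.cube _ _
    have c25 := kk_comm (hr.c25 (trc σ t b) e f1)
    have c24 := kk_comm (hr.c24 (trc σ t b) s f1 hsf)
    have e13 : c.x1 t * c.x3 b = c.x3 b * c.x1 t * c.x2 (trc σ t b) := by
      rw [← c13]; unfold kk; group
    have e15 : c.x1 t * c.x5 e = c.x5 e * c.x1 t * kk (c.x1 t) (c.x5 e) := by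
      unfold kk; group
    have e16 : c.x1 t * g = g * c.x1 t * kk (c.x1 t) (c.x5 e) * c.x2 (trc σ t b) := by
      rw [e0]
      calc c.x1 t * (c.x3 b * c.x4 s * c.x5 e) = (c.x1 t * c.x3 b) * c.x4 s * c.x5 e := by group
        _ = c.x3 b * c.x1 t * (c.x2 (trc σ t b) * c.x4 s) * c.x5 e := by rw [e13]; group
        _ = c.x3 b * (c.x1 t * c.x4 s) * (c.x2 (trc σ t b) * c.x5 e) := by rw [c24]; group
        _ = c.x3 b * c.x4 s * (c.x1 t * c.x5 e) * c.x2 (trc σ t b) := by rw [c14, c25]; group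
        _ = _ := by rw [e15]; group
    rw [← k] at e16
    have e17 : kk (c.x1 t) (c.x5 e) * c.x2 (trc σ t b) = 1 := by
      have : g * c.x1 t * (kk (c.x1 t) (c.x5 e) * c.x2 (trc σ t b)) = g * c.x1 t * 1 := by
        rw [mul_one, ← mul_assoc]; exact e16.symm
      exact mul_left_cancel this
    rw [c15] at e17
    have c23' := kk_comm (hr.c23 (trc σ t b) (crs σ t e) f1)
    have c24' := kk_comm (hr.c24 (trc σ t b) (trc σ t (shp σ e)) f1 f3)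
    have e18' : c.x2 (-(trc σ (shp σ t) e) + trc σ t b) * c.x3 (crs σ t e) * c.x4 (trc σ t (shp σ e)) = 1 := by
      rw [c.x2_add (neg_fix f2) f1]
      calc c.x2 (-(trc σ (shp σ t) e)) * c.x2 (trc σ t b) * c.x3 (crs σ t e) * c.x4 (trc σ t (shp σ e))
          = c.x2 (-(trc σ (shp σ t) e)) * (c.x2 (trc σ t b) * c.x3 (crs σ t e)) * c.x4 (trc σ t (shp σ e)) := by
            group
        _ = c.x2 (-(trc σ (shp σ t) e)) * c.x3 (crs σ t e) * (c.x2 (trc σ t b) * c.x4 (trc σ t (shp σ e))) := by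
            rw [c23']; group
        _ = c.x2 (-(trc σ (shp σ t) e)) * c.x3 (crs σ t e) * c.x4 (trc σ t (shp σ e)) * c.x2 (trc σ t b) := by
            rw [c24']; group
        _ = 1 := e17
    have e18 : c.x2 (-(trc σ (shp σ t) e) + trc σ t b) * c.x3 (crs σ t e) * c.x4 (trc σ t (shp σ e)) * c.x5 0 =
        c.x2 0 * c.x3 0 * c.x4 0 * c.x5 0 := by
      rw [e18', c.x2_zero, c.x3_zero, c.x4_zero, c.x5_zero, one_mul, one_mul, one_mul]
    have f4 : σ (-(trc σ (shp σ t) e) + trc σ t b) = -(trc σ (shp σ t) e) + trc σ t b := by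
      rw [map_add, map_neg, f1, f2]
    have hun := c.uniq25 (c.mem2 f4) (c.mem3 _) (c.mem4 f3) (c.mem5 0) (c.mem2 (map_zero σ)) (c.mem3 0)
      (c.mem4 (map_zero σ)) (c.mem5 0) e18
    have g2 := c.x2_inj f4 (map_zero σ) hun.1
    have g3 := c.x3_inj hun.2.1
    exact ⟨by linear_combination g2, g3⟩
  have he0 : e = 0 := by
    have h := (key 1).2
    unfold crs at h
    rw [map_one, map_one, one_mul, one_mul] at h
    -- `σ (σ e) = - σ e`
    have h' : σ (σ e) = -σ e := eq_neg_of_add_eq_zero_left h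
    have h'' : e = σ e := by
      have := congrArg σ h'
      rw [c.cube, map_neg, h', neg_neg] at this
      exact this
    have h3 : σ e = -σ e := by rw [← h'] ; rw [← h'']; exact h''
    have h4 : (2 : E) * σ e = 0 := by linear_combination h3
    rcases mul_eq_zero.1 h4 with h5 | h5
    · exact absurd h5 h2
    · rw [h'', h5]
  subst he0
  have hb0 : b = 0 := by
    apply hnd
    intro t
    rw [(key t).1]
    unfold trc
    rw [mul_zero, map_zero, map_zero]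
    ring
  subst hb0
  rw [c.x3_zero, c.x5_zero, one_mul, mul_one] at e0
  rw [e0]
  exact h4

/-! ### The central root elements -/

theorem isConj_x4 [Finite E] (h2 : (2 : E) ≠ 0) {t : E} (ht : σ t = t) (h0 : t ≠ 0) : IsConj (c.x4 1) (c.x4 t) := by
  obtain ⟨g, hg⟩ := c.exists_act' h2 (c1 := t⁻¹) (c6 := t ^ 2) (inv_ne_zero h0) (pow_ne_zero 2 h0)
    (by rw [map_pow, ht])
  refine isConj_iff.2 ⟨g, ?_⟩
  rw [hg.a4 1 (map_one σ), nrm_of_fix (inv_fix ht)]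
  congr 1
  field_simp

theorem isConj_mem4 [Finite E] (h2 : (2 : E) ≠ 0) {x : L} (hx : x ∈ c.X 4) (h1 : x ≠ 1) : IsConj (c.x4 1) x := by
  obtain ⟨t, ht, rfl⟩ := (c.par.mem4 _).1 hx
  refine isConj_x4 c h2 ht ?_
  rintro rfl
  exact h1 c.x4_zero

theorem isConj_mem6 [Finite E] (h2 : (2 : E) ≠ 0) {x : L} (hx : x ∈ c.X 6) (h1 : x ≠ 1) : IsConj (c.x4 1) x := by
  have h := maps_mem c.maps_g hx (j := 4) (by decide)
  refine (isConj_mem4 c h2 h ?_).trans ?_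
  · intro h3
    apply h1
    have : x = (c.n6 * c.n1)⁻¹ * (c.n6 * c.n1 * x * (c.n6 * c.n1)⁻¹) * (c.n6 * c.n1) := by group
    rw [this, h3]
    group
  · exact (isConj_iff.2 ⟨c.n6 * c.n1, rfl⟩).symm

theorem comm46 {s t : E} (hs : σ s = s) (ht : σ t = t) : c.x4 s * c.x6 t = c.x6 t * c.x4 s :=
  kk_comm (c.par.rel.c46 s t hs ht)

theorem isConj_x46 [Finite E] (h2 : (2 : E) ≠ 0) {s t : E} (hs : σ s = s) (ht : σ t = t) (h : ¬ (s = 0 ∧ t = 0)) :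
    IsConj (c.x4 1) (c.x4 s * c.x6 t) := by
  by_cases h0 : t = 0
  · subst h0
    rw [c.x6_zero, mul_one]
    exact isConj_x4 c h2 hs fun h1 => h ⟨h1, rfl⟩
  · have hne : c.x6 t ≠ 1 := fun h1 => h0 (c.x6_inj ht (map_zero σ) (by rw [h1, c.x6_zero]))
    refine (isConj_mem6 c h2 (c.mem6 ht) hne).trans ?_
    have hf : σ (s * t⁻¹) = s * t⁻¹ := mul_fix hs (inv_fix ht)
    refine isConj_iff.2 ⟨c.x2 (s * t⁻¹), ?_⟩
    have c26 := c.par.rel.c26 (s * t⁻¹) t hf ht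
    rw [mul_assoc, inv_mul_cancel₀ h0, mul_one] at c26
    have c24 := kk_comm (c.par.rel.c24 (s * t⁻¹) s hf hs)
    have e : c.x2 (s * t⁻¹) * c.x6 t = c.x6 t * c.x2 (s * t⁻¹) * c.x4 s := by
      rw [← c26]; unfold kk; group
    rw [e, mul_assoc (c.x6 t), c24, ← mul_assoc, mul_assoc _ (c.x2 _), mul_inv_cancel, mul_one]
    exact (comm46 c hs ht).symm

/-- the group `X 4 X 6` as the image of `F × F` -/
def homA : Multiplicative (↥(fx σ) × ↥(fx σ)) →* L where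
  toFun p := c.x4 p.toAdd.1 * c.x6 p.toAdd.2
  map_one' := by
    change c.x4 ((0 : ↥(fx σ)) : E) * c.x6 ((0 : ↥(fx σ)) : E) = 1
    rw [show ((0 : ↥(fx σ)) : E) = 0 from rfl, c.x4_zero, c.x6_zero, one_mul]
  map_mul' p p' := by
    change c.x4 ((p.toAdd.1 + p'.toAdd.1 : ↥(fx σ)) : E) * c.x6 ((p.toAdd.2 + p'.toAdd.2 : ↥(fx σ)) : E) =
      c.x4 p.toAdd.1 * c.x6 p.toAdd.2 * (c.x4 p'.toAdd.1 * c.x6 p'.toAdd.2)
    have a1 : σ (p.toAdd.1 : E) = p.toAdd.1 := p.toAdd.1.2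
    have a2 : σ (p.toAdd.2 : E) = p.toAdd.2 := p.toAdd.2.2
    have b1 : σ (p'.toAdd.1 : E) = p'.toAdd.1 := p'.toAdd.1.2
    have b2 : σ (p'.toAdd.2 : E) = p'.toAdd.2 := p'.toAdd.2.2
    rw [show ((p.toAdd.1 + p'.toAdd.1 : ↥(fx σ)) : E) = (p.toAdd.1 : E) + p'.toAdd.1 from rfl,
      show ((p.toAdd.2 + p'.toAdd.2 : ↥(fx σ)) : E) = (p.toAdd.2 : E) + p'.toAdd.2 from rfl,
      c.x4_add a1 b1, c.x6_add a2 b2]
    have h := comm46 c b1 a2
    calc c.x4 p.toAdd.1 * c.x4 p'.toAdd.1 * (c.x6 p.toAdd.2 * c.x6 p'.toAdd.2)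
        = c.x4 p.toAdd.1 * (c.x4 p'.toAdd.1 * c.x6 p.toAdd.2) * c.x6 p'.toAdd.2 := by group
      _ = _ := by rw [h]; group

theorem homA_inj : Function.Injective (homA c) := by
  rw [injective_iff_map_eq_one]
  intro p hp
  have a1 : σ (p.toAdd.1 : E) = p.toAdd.1 := p.toAdd.1.2
  have a2 : σ (p.toAdd.2 : E) = p.toAdd.2 := p.toAdd.2.2
  have h : c.x4 p.toAdd.1 * c.x6 p.toAdd.2 = 1 := hp
  have h1 : c.x4 p.toAdd.1 = (c.x6 p.toAdd.2)⁻¹ := eq_inv_of_mul_eq_one_left h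
  have h3 : c.x4 p.toAdd.1 = 1 := c.eq_one_of_ne (j := 4) (k := 6) (by decide) (c.mem4 a1)
    (by rw [h1]; exact inv_mem (c.mem6 a2))
  have h4 : c.x6 p.toAdd.2 = 1 := by rw [h3] at h; rwa [one_mul] at h
  have e1 : (p.toAdd.1 : E) = 0 := c.x4_inj a1 (map_zero σ) (by rw [h3, c.x4_zero])
  have e2 : (p.toAdd.2 : E) = 0 := c.x6_inj a2 (map_zero σ) (by rw [h4, c.x6_zero])
  have : p.toAdd = 0 := Prod.ext (Subtype.ext e1) (Subtype.ext e2)
  exact this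

/-- **an elementary abelian subgroup of order `|F|²`, all nonidentity elements conjugate to `x4 1`** -/
theorem exists_A [Finite E] (h2 : (2 : E) ≠ 0) : ∃ A : Subgroup L, Nat.card A = Nat.card ↥(fx σ) ^ 2 ∧
    ∀ a ∈ A, a ≠ 1 → IsConj (c.x4 1) a := by
  refine ⟨(homA c).range, ?_, ?_⟩
  · rw [← Nat.card_congr (MonoidHom.ofInjective (homA_inj c)).toEquiv]
    rw [Nat.card_congr Multiplicative.toAdd, Nat.card_prod, pow_two]
  · rintro _ ⟨p, rfl⟩ hne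
    refine isConj_x46 c h2 p.toAdd.1.2 p.toAdd.2.2 fun h => hne ?_
    have : p.toAdd = 0 := Prod.ext (Subtype.ext h.1) (Subtype.ext h.2)
    have h1 : p = 1 := this
    rw [h1, map_one]

theorem z_comm : c.z * c.x4 1 = c.x4 1 * c.z := by
  have h := c.act_z.a4 1 (map_one σ)
  rw [nrm_one, mul_one, neg_one_sq, mul_one] at h
  rw [← mul_inv_eq_iff_eq_mul]
  exact h

/-- `K 1 ≤ C(x4 1)` contains an involution -/
theorem two_dvd_cent [Finite L] (h2 : (2 : E) ≠ 0) :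
    2 ∣ Nat.card (Subgroup.centralizer ({c.x4 1} : Set L)) := by
  have hm : c.z ∈ Subgroup.centralizer ({c.x4 1} : Set L) := Subgroup.mem_centralizer_singleton_iff.2 (z_comm c)
  have h1 : orderOf (⟨c.z, hm⟩ : Subgroup.centralizer ({c.x4 1} : Set L)) = 2 := by
    rw [← Subgroup.orderOf_coe]
    exact orderOf_eq_prime (by rw [pow_two, c.z_sq]) (c.z_ne h2)
  rw [← h1]
  exact orderOf_dvd_natCard _

/-! ### Orders -/

theorem isPGroup_pos {p : ℕ} [CharP E p] [Fact p.Prime] : IsPGroup p ↥(Sg c.X Pos) := by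
  have k1 : IsPGroup p ↥(c.X 1) := isPGroup_of_pow p fun g hg => by
    obtain ⟨a, rfl⟩ := (c.par.mem1 _).1 hg
    exact pow_eq_one' p c.par.rel.add1 a
  exact c.isPGroup_insert (k := 1) (s := {2, 3, 4, 5, 6}) (by decide +kernel) k1 c.isPGroup_Q4

theorem exists_prod4 {g : L} (hg : g ∈ c.Q4) : ∃ a2 ∈ c.X 2, ∃ a3 ∈ c.X 3, ∃ a4 ∈ c.X 4,
    ∃ a5 ∈ c.X 5, ∃ a6 ∈ c.X 6, g = a2 * a3 * a4 * a5 * a6 := by
  obtain ⟨a2, h2, v2, hv2, rfl⟩ := c.exists_mul (k := 2) (s := {3, 4, 5, 6}) (by decide +kernel) hg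
  obtain ⟨a3, h3, v3, hv3, rfl⟩ := c.exists_mul (k := 3) (s := {4, 5, 6}) (by decide +kernel) hv2
  obtain ⟨a4, h4, v4, hv4, rfl⟩ := c.exists_mul (k := 4) (s := {5, 6}) (by decide +kernel) hv3
  obtain ⟨a5, h5, v5, hv5, rfl⟩ := c.exists_mul (k := 5) (s := {6}) (by decide +kernel) hv4
  refine ⟨a2, h2, a3, h3, a4, h4, a5, h5, v5, ?_, by group⟩
  have : Sg c.X {6} ≤ c.X 6 := Sg_le fun k hk => by rw [Finset.mem_singleton.1 hk]
  exact this hv5

theorem card_Q4_le [Finite E] : Nat.card c.Q4 ≤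
    Nat.card ↥(fx σ) * (Nat.card E * (Nat.card ↥(fx σ) * (Nat.card E * Nat.card ↥(fx σ)))) := by
  classical
  let f : ↥(fx σ) × E × ↥(fx σ) × E × ↥(fx σ) → L := fun p =>
    c.x2 p.1 * c.x3 p.2.1 * c.x4 p.2.2.1 * c.x5 p.2.2.2.1 * c.x6 p.2.2.2.2
  have hsub : (c.Q4 : Set L) ⊆ Set.range f := by
    intro g hg
    obtain ⟨_, h2, _, h3, _, h4, _, h5, _, h6, rfl⟩ := exists_prod4 c hg
    obtain ⟨r, hr, rfl⟩ := (c.par.mem2 _).1 h2
    obtain ⟨b, rfl⟩ := (c.par.mem3 _).1 h3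
    obtain ⟨s, hs, rfl⟩ := (c.par.mem4 _).1 h4
    obtain ⟨e, rfl⟩ := (c.par.mem5 _).1 h5
    obtain ⟨t, ht, rfl⟩ := (c.par.mem6 _).1 h6
    exact ⟨(⟨r, hr⟩, b, ⟨s, hs⟩, e, ⟨t, ht⟩), rfl⟩
  have hfin : Finite ↥(fx σ) := Subtype.finite
  have h1 : Nat.card c.Q4 ≤ Nat.card (Set.range f) := Nat.card_mono (Set.toFinite _) hsub
  have h3 : Nat.card (Set.range f) ≤ Nat.card (↥(fx σ) × E × ↥(fx σ) × E × ↥(fx σ)) := Finite.card_range_le f
  refine h1.trans (h3.trans ?_)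
  rw [Nat.card_prod, Nat.card_prod, Nat.card_prod, Nat.card_prod]

theorem card_cent_le [Finite E] (h2 : (2 : E) ≠ 0) {C : Subgroup L} (hC : ∀ g ∈ C, ∀ x ∈ c.X 4, g * x = x * g) :
    Nat.card C ≤ Nat.card c.Q4 * Nat.card (SL2 E) := by
  classical
  have hq : Finite c.Q4 := by
    have h := card_Q4_le c
    have hfin : Finite ↥(fx σ) := Subtype.finite
    let f : ↥(fx σ) × E × ↥(fx σ) × E × ↥(fx σ) → L := fun p =>
      c.x2 p.1 * c.x3 p.2.1 * c.x4 p.2.2.1 * c.x5 p.2.2.2.1 * c.x6 p.2.2.2.2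
    have hsub : (c.Q4 : Set L) ⊆ Set.range f := by
      intro g hg
      obtain ⟨_, h2, _, h3, _, h4, _, h5, _, h6, rfl⟩ := exists_prod4 c hg
      obtain ⟨r, hr, rfl⟩ := (c.par.mem2 _).1 h2
      obtain ⟨b, rfl⟩ := (c.par.mem3 _).1 h3
      obtain ⟨s, hs, rfl⟩ := (c.par.mem4 _).1 h4
      obtain ⟨e, rfl⟩ := (c.par.mem5 _).1 h5
      obtain ⟨t, ht, rfl⟩ := (c.par.mem6 _).1 h6
      exact ⟨(⟨r, hr⟩, b, ⟨s, hs⟩, e, ⟨t, ht⟩), rfl⟩
    exact ((Set.finite_range f).subset hsub).to_subtype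
  let f : ↥c.Q4 × SL2 E → L := fun p => p.1 * c.pb p.2
  have hsub : (C : Set L) ⊆ Set.range f := by
    intro g hg
    obtain ⟨q, hq, _, ⟨y, rfl⟩, rfl⟩ := c.centralizer_X4 h2 (hC g hg)
    exact ⟨(⟨q, hq⟩, y), rfl⟩
  have h1 : Nat.card C ≤ Nat.card (Set.range f) := Nat.card_mono (Set.toFinite _) hsub
  have h3 : Nat.card (Set.range f) ≤ Nat.card (↥c.Q4 × SL2 E) := Finite.card_range_le f
  refine h1.trans (h3.trans ?_)
  rw [Nat.card_prod]

end Cfsg.Agent.H291.TC.HexZ
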