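import Mathlib

/-!
# Two quadratic forms on a space of dimension three and its dual, over a finite field of odd order
-/

set_option autoImplicit false

namespace Cfsg.Agent.H291.TC.Q3

open Matrix

variable {F : Type*} [Field F]

/-- the value of the quadratic form with matrix `T` -/
def qf {n : ℕ} (T : Matrix (Fin n) (Fin n) F) (p : Fin n → F) : F := p ⬝ᵥ (T *ᵥ p)

variable {n : ℕ} {T : Matrix (Fin n) (Fin n) F}

theorem symm (hT : Tᵀ = T) (a b : Fin n → F) : a ⬝ᵥ (T *ᵥ b) = b ⬝ᵥ (T *ᵥ a) := by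
  rw [Matrix.dotProduct_mulVec, ← Matrix.mulVec_transpose, hT, dotProduct_comm]

theorem qf_add (hT : Tᵀ = T) (a b : Fin n → F) : qf T (a + b) = qf T a + 2 * (a ⬝ᵥ (T *ᵥ b)) + qf T b := by
  unfold qf
  rw [mulVec_add, dotProduct_add, add_dotProduct, add_dotProduct, symm hT b a]
  ring

theorem qf_smul (t : F) (a : Fin n → F) : qf T (t • a) = t ^ 2 * qf T a := by
  unfold qf
  rw [mulVec_smul, dotProduct_smul, smul_dotProduct, smul_eq_mul, smul_eq_mul]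
  ring

theorem bl_smul (t : F) (a b : Fin n → F) : a ⬝ᵥ (T *ᵥ (t • b)) = t * (a ⬝ᵥ (T *ᵥ b)) := by
  rw [mulVec_smul, dotProduct_smul, smul_eq_mul]

theorem bl_smul' (t : F) (a b : Fin n → F) : (t • a) ⬝ᵥ (T *ᵥ b) = t * (a ⬝ᵥ (T *ᵥ b)) := by
  rw [smul_dotProduct, smul_eq_mul]

theorem bl_add (a b c : Fin n → F) : a ⬝ᵥ (T *ᵥ (b + c)) = a ⬝ᵥ (T *ᵥ b) + a ⬝ᵥ (T *ᵥ c) := by
  rw [mulVec_add, dotProduct_add]

theorem bl_add' (a b c : Fin n → F) : (a + b) ⬝ᵥ (T *ᵥ c) = a ⬝ᵥ (T *ᵥ c) + b ⬝ᵥ (T *ᵥ c) := by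
  rw [add_dotProduct]

section Finite

theorem odd_card [Fintype F] (h2 : (2 : F) ≠ 0) : Fintype.card F % 2 = 1 :=
  FiniteField.odd_card_of_char_ne_two fun h => h2 (by
    have h3 : ((2 : ℕ) : F) = 0 := (ringChar.spec F 2).2 (by rw [h])
    exact_mod_cast h3)

variable [Finite F]

open Polynomial in
/-- a quadratic polynomial takes a square value -/
theorem exists_sq (h2 : (2 : F) ≠ 0) {a b c : F} (ha : a ≠ 0) : ∃ t y : F, a * t ^ 2 + b * t + c = y ^ 2 := by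
  classical
  have : Fintype F := Fintype.ofFinite F
  obtain ⟨t, y, h⟩ := FiniteField.exists_root_sum_quadratic (R := F)
    (f := C a * X ^ 2 + C b * X + C c) (g := C (-1) * X ^ 2 + C 0 * X + C 0)
    (degree_quadratic ha) (degree_quadratic (neg_ne_zero.2 one_ne_zero)) (odd_card h2)
  refine ⟨t, y, ?_⟩
  simp only [eval_add, eval_mul, eval_C, eval_pow, eval_X] at h
  linear_combination h

open Polynomial in
/-- a binary form represents everything -/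
theorem exists_rep (h2 : (2 : F) ≠ 0) {a b : F} (ha : a ≠ 0) (hb : b ≠ 0) (c : F) :
    ∃ s t : F, a * s ^ 2 + b * t ^ 2 = c := by
  classical
  have : Fintype F := Fintype.ofFinite F
  obtain ⟨s, t, h⟩ := FiniteField.exists_root_sum_quadratic (R := F)
    (f := C a * X ^ 2 + C 0 * X + C (-c)) (g := C b * X ^ 2 + C 0 * X + C 0)
    (degree_quadratic ha) (degree_quadratic hb) (odd_card h2)
  refine ⟨s, t, ?_⟩
  simp only [eval_add, eval_mul, eval_C, eval_pow, eval_X] at h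
  linear_combination h

end Finite

/-- the final step: adjust `v` by a multiple of `x` -/
theorem final (h2 : (2 : F) ≠ 0) (hT : Tᵀ = T) {S : Matrix (Fin n) (Fin n) F} {x v φ : Fin n → F} {y : F}
    (hx : qf T x = 0) (hxv : x ⬝ᵥ (T *ᵥ v) = 0) (hv : qf T v ≠ 0) (hφ : φ ⬝ᵥ x ≠ 0)
    (hy : -(qf T v) * qf S φ = y ^ 2) :
    ∃ x v φ : Fin n → F, qf T x = 0 ∧ x ⬝ᵥ (T *ᵥ v) = 0 ∧ qf T v ≠ 0 ∧
      φ ⬝ᵥ x ≠ 0 ∧ qf S φ + 4 / qf T v * (φ ⬝ᵥ v) ^ 2 = 0 := by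
  obtain ⟨l, hl⟩ : ∃ l, l = (y / 2 - φ ⬝ᵥ v) / (φ ⬝ᵥ x) := ⟨_, rfl⟩
  have e1 : qf T (v + l • x) = qf T v := by
    rw [qf_add hT, qf_smul, hx, bl_smul, symm hT, hxv]
    ring
  have e2 : φ ⬝ᵥ (v + l • x) = y / 2 := by
    rw [dotProduct_add, dotProduct_smul, smul_eq_mul, hl]
    field_simp
    ring
  refine ⟨x, v + l • x, φ, hx, ?_, by rw [e1]; exact hv, hφ, ?_⟩
  · rw [bl_add, hxv, bl_smul]
    change 0 + l * qf T x = 0
    rw [hx]
    ring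
  · rw [e1, e2]
    have h : 4 / qf T v * (y / 2) ^ 2 = y ^ 2 / qf T v := by
      field_simp
      ring
    rw [h, ← hy]
    field_simp
    ring

/-- two independent isotropic vectors orthogonal to `v` -/
theorem two [Finite F] (h2 : (2 : F) ≠ 0) (hT : Tᵀ = T) {S : Matrix (Fin n) (Fin n) F} (hS : Sᵀ = S)
    {x x' v α β : Fin n → F}
    (hx : qf T x = 0) (hxv : x ⬝ᵥ (T *ᵥ v) = 0) (hx' : qf T x' = 0) (hxv' : x' ⬝ᵥ (T *ᵥ v) = 0) (hv : qf T v ≠ 0)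
    (h11 : α ⬝ᵥ x = 1) (h21 : β ⬝ᵥ x = 0) (h22 : β ⬝ᵥ x' = 1) :
    ∃ x v φ : Fin n → F, qf T x = 0 ∧ x ⬝ᵥ (T *ᵥ v) = 0 ∧ qf T v ≠ 0 ∧
      φ ⬝ᵥ x ≠ 0 ∧ qf S φ + 4 / qf T v * (φ ⬝ᵥ v) ^ 2 = 0 := by
  by_cases hb : qf S β = 0
  · exact final h2 hT (y := 0) hx' hxv' hv (by rw [h22]; exact one_ne_zero) (by rw [hb]; ring)
  · obtain ⟨t, y, hty⟩ := exists_sq h2 (a := -(qf T v) * qf S β) (b := -(qf T v) * (2 * (α ⬝ᵥ (S *ᵥ β))))
      (c := -(qf T v) * qf S α) (mul_ne_zero (neg_ne_zero.2 hv) hb)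
    refine final h2 hT (φ := α + t • β) (y := y) hx hxv hv ?_ ?_
    · rw [add_dotProduct, smul_dotProduct, h11, h21, smul_zero, add_zero]
      exact one_ne_zero
    · rw [qf_add hS, qf_smul, bl_smul, ← hty]
      ring

/-- the radical vector -/
theorem rad [Finite F] (h2 : (2 : F) ≠ 0) (hT : Tᵀ = T) {S : Matrix (Fin n) (Fin n) F}
    {x v₀ v₁ φ : Fin n → F} (hx : qf T x = 0) (h0 : x ⬝ᵥ (T *ᵥ v₀) = 0) (h1 : x ⬝ᵥ (T *ᵥ v₁) = 0)
    (h01 : v₀ ⬝ᵥ (T *ᵥ v₁) = 0) (hv0 : qf T v₀ ≠ 0) (hv1 : qf T v₁ ≠ 0) (hφ : φ ⬝ᵥ x = 1) :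
    ∃ x v φ : Fin n → F, qf T x = 0 ∧ x ⬝ᵥ (T *ᵥ v) = 0 ∧ qf T v ≠ 0 ∧
      φ ⬝ᵥ x ≠ 0 ∧ qf S φ + 4 / qf T v * (φ ⬝ᵥ v) ^ 2 = 0 := by
  obtain ⟨c, hc, y, hy⟩ : ∃ c : F, c ≠ 0 ∧ ∃ y : F, -c * qf S φ = y ^ 2 := by
    by_cases hs : qf S φ = 0
    · exact ⟨1, one_ne_zero, 0, by rw [hs]; ring⟩
    · exact ⟨-qf S φ, neg_ne_zero.2 hs, qf S φ, by ring⟩
  obtain ⟨s, t, hst⟩ := exists_rep h2 hv0 hv1 c
  have e : qf T (s • v₀ + t • v₁) = c := by
    rw [qf_add hT, qf_smul, qf_smul, bl_smul, bl_smul', h01, ← hst]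
    ring
  refine final h2 hT (v := s • v₀ + t • v₁) (φ := φ) (y := y) hx ?_ ?_ ?_ ?_
  · rw [bl_add, bl_smul, bl_smul, h0, h1]; ring
  · rw [e]; exact hc
  · rw [hφ]; exact one_ne_zero
  · rw [e]; exact hy

/-- the conclusion -/
def Concl (T S : Matrix (Fin n) (Fin n) F) : Prop := ∃ x v φ : Fin n → F, qf T x = 0 ∧ x ⬝ᵥ (T *ᵥ v) = 0 ∧
  qf T v ≠ 0 ∧ φ ⬝ᵥ x ≠ 0 ∧ qf S φ + 4 / qf T v * (φ ⬝ᵥ v) ^ 2 = 0

/-- an orthogonal basis with dual basis -/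
structure OB (T : Matrix (Fin n) (Fin n) F) (u e : Fin 3 → Fin n → F) : Prop where
  orth : ∀ i j, i ≠ j → u i ⬝ᵥ (T *ᵥ u j) = 0
  dual : ∀ i j, e i ⬝ᵥ u j = if i = j then 1 else 0

theorem OB.perm {u e : Fin 3 → Fin n → F} (h : OB T u e) (σ : Equiv.Perm (Fin 3)) :
    OB T (u ∘ σ) (e ∘ σ) where
  orth i j hij := h.orth _ _ fun k => hij (σ.injective k)
  dual i j := by
    have := h.dual (σ i) (σ j)
    simp only [Function.comp]
    rw [this]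
    simp only [σ.injective.eq_iff]

theorem rank_one [Finite F] (h2 : (2 : F) ≠ 0) (hT : Tᵀ = T) {S : Matrix (Fin n) (Fin n) F} (hS : Sᵀ = S)
    {u e : Fin 3 → Fin n → F} (h : OB T u e) (h0 : qf T (u 0) ≠ 0) (h1 : qf T (u 1) = 0)
    (h2' : qf T (u 2) = 0) : Concl T S := by
  refine two h2 hT hS (x := u 1) (x' := u 2) (v := u 0) (α := e 1) (β := e 2) h1 (h.orth _ _ (by decide)) h2'
    (h.orth _ _ (by decide)) h0 ?_ ?_ ?_
  · rw [h.dual]; rfl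
  · rw [h.dual]; rfl
  · rw [h.dual]; rfl

theorem rank_two [Finite F] (h2 : (2 : F) ≠ 0) (hT : Tᵀ = T) {S : Matrix (Fin n) (Fin n) F}
    {u e : Fin 3 → Fin n → F} (h : OB T u e) (h0 : qf T (u 0) ≠ 0) (h1 : qf T (u 1) ≠ 0)
    (h2' : qf T (u 2) = 0) : Concl T S := by
  refine rad h2 hT (x := u 2) (v₀ := u 0) (v₁ := u 1) (φ := e 2) h2' (h.orth _ _ (by decide))
    (h.orth _ _ (by decide)) (h.orth _ _ (by decide)) h0 h1 ?_
  rw [h.dual]; rfl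

theorem rank_three [Finite F] (h2 : (2 : F) ≠ 0) (hT : Tᵀ = T) {S : Matrix (Fin n) (Fin n) F} (hS : Sᵀ = S)
    {u e : Fin 3 → Fin n → F} (h : OB T u e) (h0 : qf T (u 0) ≠ 0) (h1 : qf T (u 1) ≠ 0)
    (h2' : qf T (u 2) ≠ 0) : Concl T S := by
  obtain ⟨s, t, hst⟩ := exists_rep h2 h0 h1 (-(qf T (u 2)))
  obtain ⟨p, hp⟩ : ∃ p, p = s • u 0 + t • u 1 := ⟨_, rfl⟩
  obtain ⟨v, hv⟩ : ∃ v, v = (qf T (u 1) * t) • u 0 + (-(qf T (u 0)) * s) • u 1 := ⟨_, rfl⟩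
  have o : ∀ i j, i ≠ j → u i ⬝ᵥ (T *ᵥ u j) = 0 := h.orth
  have q : ∀ i, u i ⬝ᵥ (T *ᵥ u i) = qf T (u i) := fun i => rfl
  have hpp : qf T p = -(qf T (u 2)) := by
    rw [hp, qf_add hT, qf_smul, qf_smul, bl_smul, bl_smul', o 0 1 (by decide), ← hst]
    ring
  have hvv : qf T v = -(qf T (u 0) * qf T (u 1) * qf T (u 2)) := by
    rw [hv, qf_add hT, qf_smul, qf_smul, bl_smul, bl_smul', o 0 1 (by decide)]
    linear_combination (qf T (u 0) * qf T (u 1)) * hst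
  have hp2 : ∀ r : F, p ⬝ᵥ (T *ᵥ (r • u 2)) = 0 := by
    intro r
    rw [hp, bl_smul, bl_add', bl_smul', bl_smul', o 0 2 (by decide), o 1 2 (by decide)]
    ring
  have hpv : p ⬝ᵥ (T *ᵥ v) = 0 := by
    rw [hp, hv, bl_add, bl_smul, bl_smul, bl_add', bl_smul', bl_smul', bl_add', bl_smul', bl_smul', o 0 1 (by decide),
      o 1 0 (by decide), q, q]
    ring
  have h2v : ∀ r : F, (r • u 2) ⬝ᵥ (T *ᵥ v) = 0 := by
    intro r
    rw [hv, bl_add, bl_smul, bl_smul, bl_smul', bl_smul', o 2 0 (by decide), o 2 1 (by decide)]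
    ring
  have hx : ∀ r : F, r ^ 2 = 1 → qf T (p + r • u 2) = 0 := by
    intro r hr
    rw [qf_add hT, hp2, hpp, qf_smul, hr]
    ring
  have hxv : ∀ r : F, (p + r • u 2) ⬝ᵥ (T *ᵥ v) = 0 := by
    intro r
    rw [bl_add', hpv, h2v, add_zero]
  obtain ⟨g, hg⟩ : ∃ g, g = (-(qf T (u 2))⁻¹ * (qf T (u 0) * s)) • e 0 + (-(qf T (u 2))⁻¹ * (qf T (u 1) * t)) • e 1 :=
    ⟨_, rfl⟩
  have d : ∀ i j, e i ⬝ᵥ u j = if i = j then 1 else 0 := h.dual
  have d00 : e 0 ⬝ᵥ u 0 = 1 := by rw [d]; rfl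
  have d01 : e 0 ⬝ᵥ u 1 = 0 := by rw [d]; rfl
  have d02 : e 0 ⬝ᵥ u 2 = 0 := by rw [d]; rfl
  have d10 : e 1 ⬝ᵥ u 0 = 0 := by rw [d]; rfl
  have d11 : e 1 ⬝ᵥ u 1 = 1 := by rw [d]; rfl
  have d12 : e 1 ⬝ᵥ u 2 = 0 := by rw [d]; rfl
  have d20 : e 2 ⬝ᵥ u 0 = 0 := by rw [d]; rfl
  have d21 : e 2 ⬝ᵥ u 1 = 0 := by rw [d]; rfl
  have d22 : e 2 ⬝ᵥ u 2 = 1 := by rw [d]; rfl
  have hgx : ∀ r : F, g ⬝ᵥ (p + r • u 2) = 1 := by
    intro r
    rw [hg, hp]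
    simp only [add_dotProduct, smul_dotProduct, dotProduct_add, dotProduct_smul, d00, d01, d02, d10, d11, d12,
      smul_eq_mul]
    have : -(qf T (u 2))⁻¹ * (-(qf T (u 2))) = 1 := by field_simp
    linear_combination this + (-(qf T (u 2))⁻¹) * hst
  have hex : ∀ r : F, e 2 ⬝ᵥ (p + r • u 2) = r := by
    intro r
    rw [hp]
    simp only [dotProduct_add, dotProduct_smul, d20, d21, d22, smul_eq_mul]
    ring
  refine two h2 hT hS (x := p + (1 : F) • u 2) (x' := p + (-1 : F) • u 2) (v := v)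
    (α := (1 / 2 : F) • (g + e 2)) (β := (1 / 2 : F) • (g + (-1 : F) • e 2)) (hx 1 (by ring)) (hxv 1)
    (hx (-1) (by ring)) (hxv (-1)) ?_ ?_ ?_ ?_
  · rw [hvv]
    exact neg_ne_zero.2 (mul_ne_zero (mul_ne_zero h0 h1) h2')
  · rw [smul_dotProduct, add_dotProduct, hgx, hex, smul_eq_mul]
    field_simp
    norm_num
  · rw [smul_dotProduct, add_dotProduct, smul_dotProduct, hgx, hex, smul_eq_mul, smul_eq_mul]
    ring
  · rw [smul_dotProduct, add_dotProduct, smul_dotProduct, hgx, hex, smul_eq_mul, smul_eq_mul]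
    field_simp
    norm_num

theorem exists_OB (h2 : (2 : F) ≠ 0) {T : Matrix (Fin 3) (Fin 3) F} (hT : Tᵀ = T) (h0 : T ≠ 0) :
    ∃ u e : Fin 3 → Fin 3 → F, OB T u e ∧ ∃ i, qf T (u i) ≠ 0 := by
  have : Invertible (2 : F) := invertibleOfNonzero h2
  have hs : LinearMap.IsSymm (Matrix.toBilin' T) := ⟨fun x y => by
    rw [Matrix.toBilin'_apply', Matrix.toBilin'_apply', symm hT, RingHom.id_apply]⟩
  obtain ⟨b0, hb0⟩ := LinearMap.BilinForm.exists_orthogonal_basis hs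
  have hr : Module.finrank F (Fin 3 → F) = 3 := by simp
  obtain ⟨b, hb⟩ : ∃ b : Module.Basis (Fin 3) F (Fin 3 → F), b = b0.reindex (finCongr hr) := ⟨_, rfl⟩
  have hort : ∀ i j, i ≠ j → b i ⬝ᵥ (T *ᵥ b j) = 0 := by
    intro i j hij
    have h := hb0 (i := (finCongr hr).symm i) (j := (finCongr hr).symm j)
      (fun h => hij ((finCongr hr).symm.injective h))
    have h' : Matrix.toBilin' T (b i) (b j) = 0 := by
      rw [hb, Module.Basis.reindex_apply, Module.Basis.reindex_apply]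
      exact h
    rwa [Matrix.toBilin'_apply'] at h'
  refine ⟨fun i => b i, fun i j => b.coord i (Pi.single j 1), ⟨hort, ?_⟩, ?_⟩
  · intro i j
    have h1 : (fun k => b.coord i (Pi.single k 1)) ⬝ᵥ b j = b.coord i (b j) := by
      conv_rhs => rw [LinearMap.pi_apply_eq_sum_univ (b.coord i) (b j)]
      unfold dotProduct
      refine Finset.sum_congr rfl fun k _ => ?_
      have h3 : (Pi.single k (1 : F) : Fin 3 → F) = fun l => if k = l then 1 else 0 := by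
        ext l
        rw [Pi.single_apply]
        simp only [eq_comm]
      rw [smul_eq_mul, mul_comm]
      beta_reduce
      rw [h3]
    rw [h1, Module.Basis.coord_apply, Module.Basis.repr_self, Finsupp.single_apply]
    simp only [eq_comm]
  · by_contra hcon
    push Not at hcon
    apply h0
    apply Matrix.toBilin'.injective
    rw [map_zero]
    refine LinearMap.BilinForm.ext_basis b fun i j => ?_
    rw [Matrix.toBilin'_apply', LinearMap.zero_apply, LinearMap.zero_apply]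
    by_cases hij : i = j
    · subst hij
      exact hcon i
    · exact hort i j hij

/-- **two forms on a space of dimension three and its dual** -/
theorem concl [Finite F] (h2 : (2 : F) ≠ 0) {T S : Matrix (Fin 3) (Fin 3) F} (hT : Tᵀ = T) (hS : Sᵀ = S)
    (h0 : T ≠ 0) : Concl T S := by
  obtain ⟨u, e, h, i, hi⟩ := exists_OB h2 hT h0
  -- move `i` to `0`
  obtain ⟨u', e', h', hi'⟩ : ∃ u' e' : Fin 3 → Fin 3 → F, OB T u' e' ∧ qf T (u' 0) ≠ 0 :=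
    ⟨_, _, h.perm (Equiv.swap 0 i), by simpa using hi⟩
  by_cases h1 : qf T (u' 1) = 0
  · by_cases h2' : qf T (u' 2) = 0
    · exact rank_one h2 hT hS h' hi' h1 h2'
    · refine rank_two h2 hT (h'.perm (Equiv.swap 1 2)) ?_ ?_ ?_
      · simpa [Function.comp, Equiv.swap_apply_def] using hi'
      · simpa [Function.comp] using h2'
      · simpa [Function.comp] using h1
  · by_cases h2' : qf T (u' 2) = 0
    · exact rank_two h2 hT h' hi' h1 h2'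
    · exact rank_three h2 hT hS h' hi' h1 h2'

end Cfsg.Agent.H291.TC.Q3
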