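import Mathlib

/-!
# An element of prime order `p` is real if a Sylow `p`-subgroup has order `p` and `|N(P) : C(P)|` is even
-/

set_option autoImplicit false

namespace Cfsg.Agent.H291.TC

open Subgroup

theorem inv_of_sq_eq_one {P : Type*} [Group P] {p : ℕ} [Fact p.Prime] (hP : Nat.card P = p) {ψ : MulAut P}
    (h2 : orderOf ψ = 2) (x : P) : ψ x = x⁻¹ := by
  have hc : IsCyclic P := isCyclic_of_prime_card hP
  have hcomm : ∀ a b : P, a * b = b * a := fun a b => (IsCyclic.commGroup (α := P)).mul_comm a b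
  have hsq : ∀ a, ψ (ψ a) = a := by
    intro a
    have h : ψ ^ 2 = 1 := by rw [← h2]; exact pow_orderOf_eq_one ψ
    rw [pow_two] at h
    exact DFunLike.congr_fun h a
  let F : Subgroup P := MonoidHom.eqLocus ψ.toMonoidHom (MonoidHom.id P)
  have hF : ∀ a, a ∈ F ↔ ψ a = a := fun a => Iff.rfl
  have hp : (Nat.card P).Prime := by rw [hP]; exact Fact.out
  have : Fact (Nat.card P).Prime := ⟨hp⟩
  rcases F.eq_bot_or_eq_top_of_prime_card with h | h
  · have h1 : ψ x * x ∈ F := by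
      rw [hF, map_mul, hsq, hcomm]
    rw [h, Subgroup.mem_bot] at h1
    exact eq_inv_of_mul_eq_one_left h1
  · exfalso
    have h1 : ψ = 1 := by
      ext a
      have : a ∈ F := by rw [h]; trivial
      exact (hF a).1 this
    rw [h1, orderOf_one] at h2
    omega

theorem isConj_inv_of_even {G : Type*} [Group G] [Finite G] {p : ℕ} [Fact p.Prime] (P : Sylow p G)
    (hP : Nat.card P = p)
    (he : 2 ∣ (centralizer ((P : Subgroup G) : Set G)).relIndex (normalizer ((P : Subgroup G) : Set G))) {x : G}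
    (hx : orderOf x = p) : IsConj x x⁻¹ := by
  classical
  obtain ⟨φ, hφ⟩ : ∃ φ, φ = (P : Subgroup G).normalizerMonoidHom := ⟨_, rfl⟩
  have hk : φ.ker = (centralizer ((P : Subgroup G) : Set G)).subgroupOf (normalizer ((P : Subgroup G) : Set G)) := by
    rw [hφ]
    exact Subgroup.normalizerMonoidHom_ker _
  rw [Subgroup.relIndex, ← hk, Subgroup.index_ker] at he
  have : Fact (Nat.Prime 2) := ⟨Nat.prime_two⟩
  obtain ⟨r, hr⟩ := exists_prime_orderOf_dvd_card' 2 he
  obtain ⟨ψ, hψ⟩ : ∃ ψ : MulAut ↥(P : Subgroup G), ψ = r := ⟨_, rfl⟩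
  have hψ2 : orderOf ψ = 2 := by rw [hψ, Subgroup.orderOf_coe]; exact hr
  obtain ⟨n, hn⟩ := r.2
  rw [← hψ] at hn
  have hP' : Nat.card ↥(P : Subgroup G) = p := hP
  have key := inv_of_sq_eq_one hP' hψ2
  have hact : ∀ y : ↥(P : Subgroup G), (n : G) * y * (n : G)⁻¹ = (y : G)⁻¹ := by
    intro y
    have h1 := key y
    rw [← hn, hφ] at h1
    exact congrArg Subtype.val h1
  have hxp : IsPGroup p (zpowers x) := IsPGroup.of_card (n := 1) (by rw [Nat.card_zpowers, hx, pow_one])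
  obtain ⟨Q, hQ⟩ := hxp.exists_le_sylow
  obtain ⟨g, hg⟩ := MulAction.exists_smul_eq G Q P
  have hgx : g * x * g⁻¹ ∈ (P : Subgroup G) := by
    rw [← hg]
    have : x ∈ (Q : Subgroup G) := hQ (mem_zpowers x)
    exact Subgroup.smul_mem_pointwise_smul _ (MulAut.conj g) _ this
  have h3 := hact ⟨_, hgx⟩
  have h4 : (n : G) * (g * x * g⁻¹) * (n : G)⁻¹ = (g * x * g⁻¹)⁻¹ := h3
  refine isConj_iff.2 ⟨g⁻¹ * n * g, ?_⟩
  calc g⁻¹ * n * g * x * (g⁻¹ * n * g)⁻¹ = g⁻¹ * (n * (g * x * g⁻¹) * (n : G)⁻¹) * g := by group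
    _ = x⁻¹ := by rw [h4]; group

end Cfsg.Agent.H291.TC
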